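import Groth.Prelude.Def_Dix
import Groth.Agent.S0108
import Mathlib.Algebra.Homology.DerivedCategory.Ext.ExactSequences
import Mathlib.AlgebraicGeometry.ResidueField

/-!
# Torsion in the cohomology of `G_m`
-/

universe w u

open CategoryTheory CategoryTheory.Limits AlgebraicGeometry Opposite CategoryTheory.Abelian

namespace Groth.Agent.Dix24

section General

variable {C : Type*} [Category C] [Abelian C] [HasExt.{w} C] {L A : C} (n : ℕ)

lemma comp_mk₀_nsmul_id {i : ℕ} (ξ : Ext L A i) : ξ.comp (Ext.mk₀ (n • 𝟙 A)) (add_zero i) = n • ξ := by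
  induction n with
  | zero => rw [zero_nsmul, zero_nsmul, Ext.mk₀_zero, Ext.comp_zero]
  | succ k ih => rw [succ_nsmul, succ_nsmul, Ext.mk₀_add, Ext.comp_add, ih, Ext.comp_mk₀_id]

lemma nsmul_id_kernel : n • 𝟙 (kernel (n • 𝟙 A)) = 0 := by
  refine (cancel_mono (kernel.ι (n • 𝟙 A))).1 ?_
  rw [Preadditive.nsmul_comp, Category.id_comp, zero_comp]
  have h := kernel.condition (n • 𝟙 A)
  rwa [Preadditive.comp_nsmul, Category.comp_id] at h

/-- A class killed by `n` comes from the kernel of multiplication by `n`, up to the vanishing of the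
cohomology of the cokernel one degree lower. -/
theorem exists_of_nsmul_eq_zero {i : ℕ} (ξ : Ext L A i) (hξ : n • ξ = 0)
    (h : Epi (n • 𝟙 A) ∨ ∃ j, j + 1 = i ∧ ∀ Q : C, n • 𝟙 Q = 0 → Subsingleton (Ext L Q j)) :
    ∃ η : Ext L (kernel (n • 𝟙 A)) i, η.comp (Ext.mk₀ (kernel.ι _)) (add_zero i) = ξ := by
  let φ := n • 𝟙 A
  let S := ShortComplex.mk (kernel.ι φ) (cokernel.π (kernel.ι φ)) (cokernel.condition _)
  have hS : S.ShortExact := { exact := ShortComplex.exact_cokernel (kernel.ι φ) }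
  refine Ext.covariant_sequence_exact₂ L hS ξ ?_
  let m := Abelian.factorThruCoimage φ
  have hm : cokernel.π (kernel.ι φ) ≫ m = φ := Abelian.coimage.fac φ
  let T := ShortComplex.mk m (cokernel.π m) (cokernel.condition _)
  have hT : T.ShortExact := { exact := ShortComplex.exact_cokernel m }
  set ζ := ξ.comp (Ext.mk₀ S.g) (add_zero i) with hζ
  have h0 : ζ.comp (Ext.mk₀ T.f) (add_zero i) = 0 := by
    rw [hζ, Ext.comp_assoc_of_third_deg_zero, Ext.mk₀_comp_mk₀]
    exact ((congrArg (fun t => ξ.comp (Ext.mk₀ t) (add_zero i)) hm).trans (comp_mk₀_nsmul_id n ξ)).trans hξ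
  rcases h with h | ⟨j, hj, h⟩
  · have : Epi (cokernel.π (kernel.ι φ) ≫ m) := by rw [hm]; exact h
    have : Epi m := epi_of_epi (cokernel.π (kernel.ι φ)) m
    have : IsIso m := isIso_of_mono_of_epi m
    have := congrArg (fun t : Ext L T.X₂ i => t.comp (Ext.mk₀ (inv m)) (add_zero i)) h0
    simp only [Ext.zero_comp] at this
    rw [Ext.comp_assoc_of_third_deg_zero, Ext.mk₀_comp_mk₀] at this
    rwa [show T.f ≫ inv m = 𝟙 _ from IsIso.hom_inv_id m, Ext.comp_mk₀_id] at this
  · obtain ⟨x, hx⟩ := Ext.covariant_sequence_exact₁ L hT ζ h0 hj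
    have hq : n • 𝟙 T.X₃ = 0 := by
      refine (cancel_epi (cokernel.π m)).1 ?_
      rw [Preadditive.comp_nsmul, Category.comp_id, comp_zero]
      have e : φ ≫ cokernel.π m = n • cokernel.π m := by simp [φ]
      rw [← e]
      exact (congrArg (· ≫ cokernel.π m) hm.symm).trans (by rw [Category.assoc, cokernel.condition, comp_zero])
    have := h T.X₃ hq
    rw [← hx, Subsingleton.elim x 0, Ext.zero_comp]

end General

variable {X : Scheme.{u}}

lemma killedBy_of_nsmul_id {n : ℕ} {F : EtCoh.Ab X} (h : n • 𝟙 F = 0) : EtCoh.KilledBy n F := by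
  intro U s
  have e : ∀ (a : F ⟶ F) (m : ℕ), (m • a).hom.app (op U) s = m • a.hom.app (op U) s := fun a m => by
    induction m with
    | zero => rw [zero_nsmul, zero_nsmul]; rfl
    | succ k ih => rw [succ_nsmul, succ_nsmul, ← ih]; rfl
  have := e (𝟙 F) n
  rw [h] at this
  exact this.symm

lemma isPrimaryTorsion_of_killedBy {ℓ k : ℕ} {F : EtCoh.Ab X} (h : EtCoh.KilledBy (ℓ ^ k) F) :
    Dix.IsPrimaryTorsion ℓ F := fun U s x =>
  ⟨U, 𝟙 U, ⟨x, rfl⟩, k, h U _⟩

lemma isUnit_natCast (n : ℕ) (h : Dix.InvertibleOn X n) : IsUnit (n : Γ(X, ⊤)) := by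
  refine X.toRingedSpace.isUnit_of_isUnit_germ ⊤ _ fun x hx => ?_
  have e : X.presheaf.germ ⊤ x hx (n : Γ(X, ⊤)) = (n : X.presheaf.stalk x) := map_natCast _ n
  change IsUnit (X.presheaf.germ ⊤ x hx (n : Γ(X, ⊤)))
  rw [e]
  refine IsLocalRing.notMem_maximalIdeal.1 fun hm => h x ?_
  rw [← map_natCast (X.residue x).hom n]
  exact Ideal.Quotient.eq_zero_iff_mem.2 hm

end Groth.Agent.Dix24
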